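import Mathlib
import Cfsg.Agent.S0713

set_option autoImplicit false

/-! Permutation groups of degree 11 not containing the alternating group: element structure
(via Jordan's theorem S0713). -/

namespace Cfsg.Agent.Lib.Helper5.Deg11

open Equiv Equiv.Perm MulAction

variable {α : Type*} [Fintype α] [DecidableEq α]

/-- cycle type of an element of prime order -/
theorem cycleType_of_orderOf_prime {p : ℕ} (hp : p.Prime) {g : Perm α} (hg : orderOf g = p) :
    ∃ n, g.cycleType = Multiset.replicate (n + 1) p ∧ (n + 1) * p = g.support.card := by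
  obtain ⟨n, hn⟩ := cycleType_prime_order (σ := g) (by rw [hg]; exact hp)
  rw [hg] at hn
  refine ⟨n, hn, ?_⟩
  have := sum_cycleType g
  rw [hn, Multiset.sum_replicate, smul_eq_mul] at this
  exact this

/-- an element of prime order `p` with `card α < 2 p` is a `p`-cycle -/
theorem isCycle_of_orderOf_prime {p : ℕ} (hp : p.Prime) {g : Perm α} (hg : orderOf g = p)
    (h2 : Fintype.card α < 2 * p) : g.IsCycle ∧ g.support.card = p := by
  obtain ⟨n, hn, hs⟩ := cycleType_of_orderOf_prime hp hg
  have hle : g.support.card ≤ Fintype.card α := Finset.card_le_univ _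
  have hn0 : n = 0 := by
    by_contra h
    have h2' : 2 ≤ n + 1 := by omega
    have : 2 * p ≤ (n + 1) * p := Nat.mul_le_mul_right p h2'
    omega
  subst hn0
  refine ⟨card_cycleType_eq_one.mp (by rw [hn]; simp), ?_⟩
  omega

/-- Jordan: no cycle of prime length `≤ 8`. -/
theorem jordan_false (H : Subgroup (Perm α)) [IsPretransitive H α] (hα : Fintype.card α = 11)
    (hA : ¬ alternatingGroup α ≤ H) {p : ℕ} (hp : p.Prime) (hp8 : p ≤ 8) {g : Perm α}
    (hg : g ∈ H) (hc : g.IsCycle) (hs : g.support.card = p) : False := by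
  have hprim : IsPreprimitive H α :=
    IsPreprimitive.of_prime_card (by rw [Nat.card_eq_fintype_card, hα]; norm_num)
  exact hA (Cfsg.Agent.S0713.result H hprim hp (by omega) (by omega) hc hs hg)

omit [Fintype α] [DecidableEq α] in
theorem orderOf_coe_perm (H : Subgroup (Perm α)) (g : H) : orderOf (g : Perm α) = orderOf g :=
  Subgroup.orderOf_coe g

theorem not_seven_dvd (H : Subgroup (Perm α)) [IsPretransitive H α] (hα : Fintype.card α = 11)
    (hA : ¬ alternatingGroup α ≤ H) : ¬ 7 ∣ Nat.card H := by
  intro h
  have : Fact (Nat.Prime 7) := ⟨by norm_num⟩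
  obtain ⟨g, hg⟩ := exists_prime_orderOf_dvd_card' 7 h
  have h7 : orderOf (g : Perm α) = 7 := by rw [orderOf_coe_perm]; exact hg
  obtain ⟨hc, hs⟩ := isCycle_of_orderOf_prime (by norm_num) h7 (by rw [hα]; norm_num)
  exact jordan_false H hα hA (by norm_num) (by norm_num) g.2 hc hs

/-- elements of order 5 have support of size 10 and cycle type `5,5` -/
theorem orderOf_five (H : Subgroup (Perm α)) [IsPretransitive H α] (hα : Fintype.card α = 11)
    (hA : ¬ alternatingGroup α ≤ H) {g : Perm α} (hg : g ∈ H) (h5 : orderOf g = 5) :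
    g.cycleType = Multiset.replicate 2 5 ∧ g.support.card = 10 := by
  obtain ⟨n, hn, hs⟩ := cycleType_of_orderOf_prime (by norm_num) h5
  have hle : g.support.card ≤ Fintype.card α := Finset.card_le_univ _
  have hn1 : n = 0 ∨ n = 1 := by omega
  rcases hn1 with rfl | rfl
  · exfalso
    have hc : g.IsCycle := card_cycleType_eq_one.mp (by rw [hn]; simp)
    exact jordan_false H hα hA (p := 5) (by norm_num) (by norm_num) hg hc (by omega)
  · exact ⟨hn, by omega⟩

/-- an element of order 5 has exactly one fixed point -/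
theorem exists_unique_fixed_of_five (H : Subgroup (Perm α)) [IsPretransitive H α]
    (hα : Fintype.card α = 11) (hA : ¬ alternatingGroup α ≤ H) {g : Perm α} (hg : g ∈ H)
    (h5 : orderOf g = 5) : ∃ f : α, g f = f ∧ ∀ x, g x = x → x = f := by
  obtain ⟨-, hs⟩ := orderOf_five H hα hA hg h5
  have hc : (g.support)ᶜ.card = 1 := by rw [Finset.card_compl, hs, hα]
  obtain ⟨f, hf⟩ := Finset.card_eq_one.mp hc
  refine ⟨f, ?_, ?_⟩
  · have : f ∈ (g.support)ᶜ := by rw [hf]; exact Finset.mem_singleton_self f
    rw [Finset.mem_compl, mem_support, not_not] at this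
    exact this
  · intro x hx
    have : x ∈ (g.support)ᶜ := by rw [Finset.mem_compl, mem_support, not_not]; exact hx
    rw [hf] at this
    exact Finset.mem_singleton.mp this


/-- `25 ∤ |H|`. -/
theorem not_25_dvd (H : Subgroup (Perm α)) [IsPretransitive H α] (hα : Fintype.card α = 11)
    (hA : ¬ alternatingGroup α ≤ H) : ¬ 25 ∣ Nat.card H := by
  intro h
  have : Fact (Nat.Prime 5) := ⟨by norm_num⟩
  obtain ⟨Q, hQ⟩ := Sylow.exists_subgroup_card_pow_prime 5 (n := 2) (G := H) (by simpa using h)
  have hQp : IsPGroup 5 Q := IsPGroup.of_card hQ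
  have hmod := hQp.card_modEq_card_fixedPoints α
  rw [Nat.card_eq_fintype_card, hα] at hmod
  have hne : (fixedPoints Q α).Nonempty := by
    by_contra hemp
    rw [Set.not_nonempty_iff_eq_empty] at hemp
    rw [hemp] at hmod
    simp [Nat.ModEq] at hmod
  obtain ⟨f, hf⟩ := hne
  rw [mem_fixedPoints] at hf
  obtain ⟨b, hb⟩ := Fintype.exists_ne_of_one_lt_card (by rw [hα]; norm_num) f
  -- the stabilizer of `b` in `Q`
  have hidx := MulAction.index_stabilizer Q b
  have hle : (orbit Q b).ncard ≤ 11 := by
    have := Set.ncard_le_card (orbit Q b)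
    rwa [Nat.card_eq_fintype_card, hα] at this
  have hdvd : (stabilizer Q b).index ∣ 25 := by
    have := Subgroup.index_dvd_card (stabilizer Q b)
    rwa [hQ] at this
  have hmul := Subgroup.card_mul_index (stabilizer Q b)
  rw [hQ] at hmul
  have h5 : 5 ∣ Nat.card (stabilizer Q b) := by
    have hidx' : (stabilizer Q b).index ≤ 11 := by rw [hidx]; exact hle
    have hdiv : (stabilizer Q b).index ∈ Nat.divisors 25 := by
      rw [Nat.mem_divisors]; exact ⟨hdvd, by norm_num⟩
    have hd : Nat.divisors 25 = {1, 5, 25} := by decide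
    rw [hd] at hdiv
    simp only [Finset.mem_insert, Finset.mem_singleton] at hdiv
    rcases hdiv with h1 | h1 | h1
    · rw [h1] at hmul; omega
    · rw [h1] at hmul
      have : Nat.card (stabilizer Q b) = 5 := by omega
      rw [this]
    · omega
  obtain ⟨z, hz⟩ := exists_prime_orderOf_dvd_card' 5 h5
  -- `z` fixes `b` and `f`
  have hzb : ((z : Q) : H) • b = b := z.2
  have hzf : ((z : Q) : H) • f = f := hf z
  set g : Perm α := (((z : Q) : H) : Perm α) with hg
  have hgo : orderOf g = 5 := by
    rw [hg, orderOf_coe_perm, Subgroup.orderOf_coe, Subgroup.orderOf_coe]; exact hz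
  obtain ⟨f', -, huniq⟩ := exists_unique_fixed_of_five H hα hA ((z : Q) : H).2 hgo
  have e1 : b = f' := huniq b hzb
  have e2 : f = f' := huniq f hzf
  exact hb (e1.trans e2.symm)

/-- elements of order 11 -/
theorem orderOf_eleven (hα : Fintype.card α = 11) {g : Perm α} (h11 : orderOf g = 11) :
    g.IsCycle ∧ (∀ x, g x ≠ x) ∧ sign g = 1 ∧
      Nat.card (Subgroup.centralizer ({g} : Set (Perm α))) = 11 := by
  obtain ⟨hc, hs⟩ := isCycle_of_orderOf_prime (by norm_num) h11 (by rw [hα]; norm_num)
  have hsupp : g.support = Finset.univ := Finset.eq_univ_of_card _ (by rw [hs, hα])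
  refine ⟨hc, ?_, ?_, ?_⟩
  · intro x
    rw [← mem_support, hsupp]; exact Finset.mem_univ x
  · rw [hc.sign, hs]; norm_num
  · rw [nat_card_centralizer, hc.cycleType, hs, hα]
    simp


/-- the even part of the centralizer of an element of type `5,5` has order 25 -/
theorem card_centralizer_inf_alternating (hα : Fintype.card α = 11) {g : Perm α}
    (hct : g.cycleType = Multiset.replicate 2 5) :
    Nat.card (alternatingGroup α ⊓ Subgroup.centralizer ({g} : Set (Perm α)) : Subgroup (Perm α))
      = 25 := by
  have : Nontrivial α := Fintype.one_lt_card_iff_nontrivial.mp (by rw [hα]; norm_num)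
  have hC : Nat.card (Subgroup.centralizer ({g} : Set (Perm α))) = 50 := by
    rw [nat_card_centralizer, hct, hα]
    decide
  have hnle : ¬ Subgroup.centralizer ({g} : Set (Perm α)) ≤ alternatingGroup α := by
    rw [centralizer_le_alternating_iff, hct]
    rintro ⟨-, -, h⟩
    have := h 5
    simp at this
  have hrel : (alternatingGroup α).relIndex (Subgroup.centralizer ({g} : Set (Perm α))) = 2 := by
    have h1 := Subgroup.relIndex_dvd_index_of_normal (alternatingGroup α)
      (Subgroup.centralizer ({g} : Set (Perm α)))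
    rw [alternatingGroup.index_eq_two] at h1
    rcases (Nat.dvd_prime Nat.prime_two).mp h1 with h | h
    · exact absurd (Subgroup.relIndex_eq_one.mp h) hnle
    · exact h
  have hmul : Nat.card (alternatingGroup α ⊓ Subgroup.centralizer ({g} : Set (Perm α)) :
      Subgroup (Perm α)) * (alternatingGroup α ⊓ Subgroup.centralizer ({g} : Set (Perm α))).relIndex
        (Subgroup.centralizer ({g} : Set (Perm α))) =
      Nat.card (Subgroup.centralizer ({g} : Set (Perm α))) := by
    rw [Subgroup.relIndex, ← Subgroup.card_mul_index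
      ((alternatingGroup α ⊓ Subgroup.centralizer ({g} : Set (Perm α))).subgroupOf
        (Subgroup.centralizer ({g} : Set (Perm α))))]
    congr 1
    exact (Nat.card_congr (Subgroup.subgroupOfEquivOfLe inf_le_right).toEquiv).symm
  rw [Subgroup.inf_relIndex_right, hrel, hC] at hmul
  omega

/-- in an even group, the centralizer of an element of order 5 has order 5 -/
theorem card_centralizer_five (H : Subgroup (Perm α)) [IsPretransitive H α]
    (hα : Fintype.card α = 11) (hA : ¬ alternatingGroup α ≤ H) (hHA : H ≤ alternatingGroup α)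
    (y : H) (h5 : orderOf y = 5) : Nat.card (Subgroup.centralizer ({y} : Set H)) = 5 := by
  have hy5 : orderOf (y : Perm α) = 5 := by rw [orderOf_coe_perm]; exact h5
  obtain ⟨hct, -⟩ := orderOf_five H hα hA y.2 hy5
  have h25 := card_centralizer_inf_alternating hα hct
  have hle : (Subgroup.centralizer ({y} : Set H)).map H.subtype ≤
      alternatingGroup α ⊓ Subgroup.centralizer ({(y : Perm α)} : Set (Perm α)) := by
    rintro _ ⟨z, hz, rfl⟩
    refine ⟨hHA z.2, ?_⟩
    have hz' : z ∈ Subgroup.centralizer ({y} : Set H) := hz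
    show (z : Perm α) ∈ Subgroup.centralizer ({(y : Perm α)} : Set (Perm α))
    rw [Subgroup.mem_centralizer_singleton_iff] at hz' ⊢
    have := congrArg (Subtype.val) hz'
    simpa using this
  have hdvd : Nat.card (Subgroup.centralizer ({y} : Set H)) ∣ 25 := by
    have := Subgroup.card_dvd_of_le hle
    rwa [Subgroup.card_map_of_injective H.subtype_injective, h25] at this
  have hdvd2 : Nat.card (Subgroup.centralizer ({y} : Set H)) ∣ Nat.card H :=
    Subgroup.card_subgroup_dvd_card _
  have hn25 := not_25_dvd H hα hA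
  have hy : y ∈ Subgroup.centralizer ({y} : Set H) := by
    rw [Subgroup.mem_centralizer_singleton_iff]
  have h5d : 5 ∣ Nat.card (Subgroup.centralizer ({y} : Set H)) := by
    have := orderOf_dvd_natCard (⟨y, hy⟩ : Subgroup.centralizer ({y} : Set H))
    rwa [Subgroup.orderOf_mk, h5] at this
  have hdiv : Nat.card (Subgroup.centralizer ({y} : Set H)) ∈ Nat.divisors 25 := by
    rw [Nat.mem_divisors]; exact ⟨hdvd, by norm_num⟩
  have hd : Nat.divisors 25 = {1, 5, 25} := by decide
  rw [hd] at hdiv
  simp only [Finset.mem_insert, Finset.mem_singleton] at hdiv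
  rcases hdiv with h1 | h1 | h1
  · rw [h1] at h5d; omega
  · exact h1
  · rw [h1] at hdvd2; exact absurd hdvd2 hn25

end Cfsg.Agent.Lib.Helper5.Deg11
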