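import Mathlib
import Cfsg.Agent.Lib.Helper5.Deg11.Basic
import Cfsg.Agent.Lib.Lead.SylowCount
import Cfsg.Agent.S1018
import Cfsg.Agent.S1013

set_option autoImplicit false

/-! Transitive even groups of degree 11 not containing `A11`: Sylow 11- and 5-normalizers,
simplicity and order. -/

namespace Cfsg.Agent.Lib.Helper5.Deg11

open Equiv Equiv.Perm MulAction Cfsg.Agent.Lib.Lead.SylowCount

section generic

variable {X : Type*} [Group X] [Finite X]

/-- the centralizer of a subgroup of prime order is the centralizer of any nonidentity element -/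
theorem centralizer_eq_of_card_prime {p : ℕ} [hp : Fact p.Prime] (P : Subgroup X)
    (hP : Nat.card P = p) {y : X} (hy : y ∈ P) (hy1 : y ≠ 1) :
    Subgroup.centralizer (P : Set X) = Subgroup.centralizer ({y} : Set X) := by
  have hz := Cfsg.Agent.S1018.zpowers_eq_of_card_prime P hP y hy hy1
  apply le_antisymm
  · intro z hz'
    rw [Subgroup.mem_centralizer_singleton_iff]
    exact (Subgroup.mem_centralizer_iff.mp hz' y hy).symm
  · intro z hz'
    rw [Subgroup.mem_centralizer_singleton_iff] at hz'
    rw [Subgroup.mem_centralizer_iff]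
    intro x hx
    rw [← hz] at hx
    obtain ⟨i, rfl⟩ := Subgroup.mem_zpowers_iff.mp hx
    have hc : Commute z y := hz'
    exact ((hc.zpow_right i).eq).symm

/-- `|N(P)| = |C(y)| k` with `k ∣ p - 1` for a subgroup of prime order. -/
theorem card_normalizer_of_card_prime {p : ℕ} [hp : Fact p.Prime] (P : Subgroup X)
    (hP : Nat.card P = p) {y : X} (hy : y ∈ P) (hy1 : y ≠ 1) :
    ∃ k, k ∣ p - 1 ∧ Nat.card (Subgroup.normalizer (P : Set X)) =
      Nat.card (Subgroup.centralizer ({y} : Set X)) * k := by
  have hcyc : IsCyclic P := isCyclic_of_prime_card hP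
  have h1 := relIndex_centralizer_normalizer_dvd P
  rw [IsCyclic.card_mulAut, hP, Nat.totient_prime hp.out] at h1
  refine ⟨_, h1, ?_⟩
  rw [← centralizer_eq_of_card_prime P hP hy hy1]
  exact (card_mul_relIndex (Subgroup.centralizer_le_normalizer (P : Set X))).symm

end generic

variable {α : Type*} [Fintype α] [DecidableEq α]

theorem eleven_dvd_card (H : Subgroup (Perm α)) [IsPretransitive H α]
    (hα : Fintype.card α = 11) : 11 ∣ Nat.card H := by
  obtain ⟨a₀⟩ : Nonempty α := Fintype.card_pos_iff.mp (by rw [hα]; norm_num)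
  have h1 := MulAction.index_stabilizer_of_transitive H a₀
  rw [Nat.card_eq_fintype_card, hα] at h1
  rw [← h1]
  exact Subgroup.index_dvd_card _

theorem card_dvd_factorial (H : Subgroup (Perm α)) (hα : Fintype.card α = 11) :
    Nat.card H ∣ 39916800 := by
  have h1 := Subgroup.card_subgroup_dvd_card H
  rw [Nat.card_eq_fintype_card (α := Perm α), Fintype.card_perm, hα] at h1
  exact h1

theorem card_sylow_eleven (H : Subgroup (Perm α)) [IsPretransitive H α]
    (hα : Fintype.card α = 11) (P : Sylow 11 H) : Nat.card P = 11 := by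
  have : Fact (Nat.Prime 11) := ⟨by norm_num⟩
  obtain ⟨n, hn⟩ := IsPGroup.iff_card.mp P.2
  have h11 : 11 ∣ Nat.card P := P.dvd_card_of_dvd_card (eleven_dvd_card H hα)
  have hdvd : Nat.card P ∣ 39916800 :=
    (Subgroup.card_subgroup_dvd_card (P : Subgroup H)).trans (card_dvd_factorial H hα)
  rw [hn] at h11 hdvd ⊢
  have hn1 : n = 1 := by
    rcases Nat.lt_or_ge n 2 with h | h
    · interval_cases n
      · norm_num at h11
      · rfl
    · exfalso
      have : 11 ^ 2 ∣ 39916800 := (pow_dvd_pow 11 h).trans hdvd
      norm_num at this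
  rw [hn1]; norm_num

/-- the centralizer in `H` of an element of order 11 has order 11 -/
theorem card_centralizer_eleven (H : Subgroup (Perm α)) (hα : Fintype.card α = 11) (c : H)
    (hc : orderOf c = 11) : Nat.card (Subgroup.centralizer ({c} : Set H)) = 11 := by
  have hc' : orderOf (c : Perm α) = 11 := by rw [orderOf_coe_perm]; exact hc
  obtain ⟨-, -, -, hcard⟩ := orderOf_eleven hα hc'
  have hle : (Subgroup.centralizer ({c} : Set H)).map H.subtype ≤
      Subgroup.centralizer ({(c : Perm α)} : Set (Perm α)) := by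
    rintro _ ⟨z, hz, rfl⟩
    have hz' : z ∈ Subgroup.centralizer ({c} : Set H) := hz
    show (z : Perm α) ∈ Subgroup.centralizer ({(c : Perm α)} : Set (Perm α))
    rw [Subgroup.mem_centralizer_singleton_iff] at hz' ⊢
    have := congrArg (Subtype.val) hz'
    simpa using this
  have hdvd : Nat.card (Subgroup.centralizer ({c} : Set H)) ∣ 11 := by
    have := Subgroup.card_dvd_of_le hle
    rwa [Subgroup.card_map_of_injective H.subtype_injective, hcard] at this
  have hmem : c ∈ Subgroup.centralizer ({c} : Set H) := by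
    rw [Subgroup.mem_centralizer_singleton_iff]
  have h11 : 11 ∣ Nat.card (Subgroup.centralizer ({c} : Set H)) := by
    have := orderOf_dvd_natCard (⟨c, hmem⟩ : Subgroup.centralizer ({c} : Set H))
    rwa [Subgroup.orderOf_mk, hc] at this
  exact Nat.dvd_antisymm hdvd h11

end Cfsg.Agent.Lib.Helper5.Deg11
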