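import Mathlib
import Cfsg.Agent.Lib.Helper5.Deg11.Norm
import Cfsg.Agent.Lib.Helper1.SolvablePmQ

set_option autoImplicit false

/-! Transitive even groups of degree 11 not containing `A11`: the Sylow 11-normalizer has order
55 and the group is simple. -/

namespace Cfsg.Agent.Lib.Helper5.Deg11

open Equiv Equiv.Perm MulAction Cfsg.Agent.Lib.Lead.SylowCount

variable {α : Type*} [Fintype α] [DecidableEq α]

/-- a nontrivial normal subgroup of a transitive group of degree 11 has order divisible by 11 -/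
theorem eleven_dvd_card_normal (H : Subgroup (Perm α)) [IsPretransitive H α]
    (hα : Fintype.card α = 11) (K : Subgroup H) [K.Normal] (hK : K ≠ ⊥) :
    11 ∣ Nat.card K := by
  have hprim : IsPreprimitive H α :=
    IsPreprimitive.of_prime_card (by rw [Nat.card_eq_fintype_card, hα]; norm_num)
  have htr : IsPretransitive K α := by
    apply IsQuasiPreprimitive.isPretransitive_of_normal
    intro hfix
    apply hK
    rw [Subgroup.eq_bot_iff_forall]
    intro k hk
    apply Subtype.ext
    ext x
    have hx : x ∈ fixedPoints K α := by rw [hfix]; exact Set.mem_univ x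
    exact hx ⟨k, hk⟩
  obtain ⟨a⟩ : Nonempty α := Fintype.card_pos_iff.mp (by rw [hα]; norm_num)
  have h := index_stabilizer_of_transitive K a
  rw [Nat.card_eq_fintype_card, hα] at h
  rw [← h]
  exact Subgroup.index_dvd_card _

/-- the Sylow 11-normalizer is not the Sylow subgroup itself -/
theorem card_normalizer_ne_eleven (H : Subgroup (Perm α)) [IsPretransitive H α]
    (hα : Fintype.card α = 11) (hH : ¬ Group.IsSolvable H) (P : Sylow 11 H) :
    Nat.card (Subgroup.normalizer ((P : Subgroup H) : Set H)) ≠ 11 := by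
  have : Fact (Nat.Prime 11) := ⟨by norm_num⟩
  intro hN
  have hP := card_sylow_eleven H hα P
  have hNP : Subgroup.normalizer ((P : Subgroup H) : Set H) = P := by
    symm
    apply Subgroup.eq_of_le_of_card_ge Subgroup.le_normalizer
    rw [hN]; exact hP.ge
  obtain ⟨K, hKn, hKc, hKP⟩ := exists_normal_complement_of_normalizer_eq P hP hNP
  by_cases hK : K = ⊥
  · rw [hK, Subgroup.card_bot, one_mul] at hKc
    exact hH (Cfsg.Agent.Lib.Helper1.solvable_of_card_prime_pow_mul_prime 2 11 0 (by norm_num)
      (by norm_num) (by rw [← hKc]; norm_num))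
  · have h1 := eleven_dvd_card_normal H hα K hK
    have h2 : 121 ∣ Nat.card H := by
      rw [← hKc]; exact Nat.mul_dvd_mul h1 (dvd_refl 11)
    have h3 := h2.trans (card_dvd_factorial H hα)
    norm_num at h3

/-- nonidentity elements of a Sylow 11-subgroup have order 11 and no fixed points -/
theorem orderOf_of_mem_sylow_eleven (H : Subgroup (Perm α)) [IsPretransitive H α]
    (hα : Fintype.card α = 11) (P : Sylow 11 H) {g : H} (hg : g ∈ (P : Subgroup H))
    (hg1 : g ≠ 1) : orderOf g = 11 ∧ ∀ x, (g : Perm α) x ≠ x := by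
  have hP := card_sylow_eleven H hα P
  have h1 : orderOf g ∣ 11 := by
    have := orderOf_dvd_natCard (⟨g, hg⟩ : (P : Subgroup H))
    rw [Subgroup.orderOf_mk] at this
    exact hP ▸ this
  have h2 : orderOf g = 11 := by
    rcases (Nat.dvd_prime (by norm_num)).mp h1 with h | h
    · exact absurd (orderOf_eq_one_iff.mp h) hg1
    · exact h
  refine ⟨h2, ?_⟩
  have h3 : orderOf (g : Perm α) = 11 := by rw [orderOf_coe_perm]; exact h2
  exact (orderOf_eleven hα h3).2.1

theorem exists_ne_one_mem_sylow_eleven (H : Subgroup (Perm α)) [IsPretransitive H α]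
    (hα : Fintype.card α = 11) (P : Sylow 11 H) : ∃ c ∈ (P : Subgroup H), c ≠ 1 := by
  have hP := card_sylow_eleven H hα P
  by_contra hne
  push Not at hne
  have h1 : (P : Subgroup H) = ⊥ := (Subgroup.eq_bot_iff_forall _).mpr hne
  have h2 : Nat.card (P : Subgroup H) = 1 := by rw [h1, Subgroup.card_bot]
  have h3 : Nat.card (P : Subgroup H) = 11 := hP
  omega

/-- an involution in the alternating group on 11 points has two distinct fixed points -/
theorem exists_fixed_pair_of_involution (hα : Fintype.card α = 11) {w : Perm α}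
    (h2 : orderOf w = 2) (hs : sign w = 1) : ∃ x y, x ≠ y ∧ w x = x ∧ w y = y := by
  obtain ⟨n, hct, hsupp⟩ := cycleType_of_orderOf_prime Nat.prime_two h2
  have hsign := sign_of_cycleType w
  rw [hct, hs, Multiset.sum_replicate, Multiset.card_replicate] at hsign
  have hev : Even ((n + 1) • 2 + (n + 1)) :=
    (neg_one_pow_eq_one_iff_even (by decide)).mp hsign.symm
  have hle : w.support.card ≤ 11 := by
    rw [← hα]; exact Finset.card_le_univ _
  have hn : Even (n + 1) := by
    rcases hev with ⟨r, hr⟩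
    rw [smul_eq_mul] at hr
    exact ⟨r - (n + 1), by omega⟩
  have hc : 1 < (w.supportᶜ).card := by
    rw [Finset.card_compl, hα]
    rcases hn with ⟨r, hr⟩
    omega
  obtain ⟨x, hx, y, hy, hxy⟩ := Finset.one_lt_card.mp hc
  refine ⟨x, y, hxy, ?_, ?_⟩
  · exact Perm.notMem_support.mp (Finset.mem_compl.mp hx)
  · exact Perm.notMem_support.mp (Finset.mem_compl.mp hy)

/-- in an even transitive group of degree 11 the Sylow 11-normalizer has odd order -/
theorem odd_card_normalizer_eleven (H : Subgroup (Perm α)) [IsPretransitive H α]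
    (hα : Fintype.card α = 11) (hHA : H ≤ alternatingGroup α) (P : Sylow 11 H) :
    ¬ 2 ∣ Nat.card (Subgroup.normalizer ((P : Subgroup H) : Set H)) := by
  have : Fact (Nat.Prime 11) := ⟨by norm_num⟩
  have : Fact (Nat.Prime 2) := ⟨Nat.prime_two⟩
  intro h2
  obtain ⟨w, hw⟩ := exists_prime_orderOf_dvd_card' 2 h2
  obtain ⟨c, hcP, hc1⟩ := exists_ne_one_mem_sylow_eleven H hα P
  obtain ⟨hc11, hcfix⟩ := orderOf_of_mem_sylow_eleven H hα P hcP hc1
  have hwH : orderOf (w : H) = 2 := by rw [Subgroup.orderOf_coe]; exact hw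
  have hwP : orderOf (((w : H) : Perm α)) = 2 := by rw [orderOf_coe_perm]; exact hwH
  have hws : sign (((w : H) : Perm α)) = 1 := mem_alternatingGroup.mp (hHA (w : H).2)
  obtain ⟨x, y, hxy, hx, hy⟩ := exists_fixed_pair_of_involution hα hwP hws
  have hcyc := (orderOf_eleven hα (by rw [orderOf_coe_perm]; exact hc11 :
    orderOf (c : Perm α) = 11)).1
  obtain ⟨i, hi⟩ := hcyc.exists_zpow_eq (hcfix x) (hcfix y)
  have heP : c ^ i ∈ (P : Subgroup H) := Subgroup.zpow_mem _ hcP i
  have hex : ((c ^ i : H) : Perm α) x = y := by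
    rw [Subgroup.coe_zpow]; exact hi
  have he1 : c ^ i ≠ 1 := by
    intro h
    rw [h] at hex
    exact hxy (by simpa using hex)
  have hdP : (w : H) * c ^ i * (w : H)⁻¹ ∈ (P : Subgroup H) :=
    (Subgroup.mem_normalizer_iff.mp w.2 (c ^ i)).mp heP
  have hwinv : (((w : H) : Perm α))⁻¹ x = x := by
    rw [Perm.inv_eq_iff_eq]; exact hx.symm
  have hdx : (((w : H) * c ^ i * (w : H)⁻¹ : H) : Perm α) x = y := by
    rw [Subgroup.coe_mul, Subgroup.coe_mul, Subgroup.coe_inv, Perm.mul_apply, Perm.mul_apply,
      hwinv, hex, hy]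
  have hq : (c ^ i)⁻¹ * ((w : H) * c ^ i * (w : H)⁻¹) = 1 := by
    by_contra hne
    have hqP : (c ^ i)⁻¹ * ((w : H) * c ^ i * (w : H)⁻¹) ∈ (P : Subgroup H) :=
      Subgroup.mul_mem _ (Subgroup.inv_mem _ heP) hdP
    obtain ⟨-, hfix⟩ := orderOf_of_mem_sylow_eleven H hα P hqP hne
    apply hfix x
    rw [Subgroup.coe_mul, Perm.mul_apply, hdx, Subgroup.coe_inv, Perm.inv_eq_iff_eq]
    exact hex.symm
  have hcomm : (w : H) * c ^ i = c ^ i * (w : H) := by
    have h1 : (w : H) * c ^ i * (w : H)⁻¹ = c ^ i := by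
      have := congrArg (fun t => c ^ i * t) hq
      simpa [mul_assoc] using this
    calc (w : H) * c ^ i = ((w : H) * c ^ i * (w : H)⁻¹) * (w : H) := by group
      _ = c ^ i * (w : H) := by rw [h1]
  have he11 := (orderOf_of_mem_sylow_eleven H hα P heP he1).1
  have hcard := card_centralizer_eleven H hα (c ^ i) he11
  have hmem : (w : H) ∈ Subgroup.centralizer ({c ^ i} : Set H) := by
    rw [Subgroup.mem_centralizer_singleton_iff]; exact hcomm
  have hdvd := orderOf_dvd_natCard (⟨(w : H), hmem⟩ : Subgroup.centralizer ({c ^ i} : Set H))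
  rw [Subgroup.orderOf_mk, hwH, hcard] at hdvd
  norm_num at hdvd

/-- the Sylow 11-normalizer has order 55 -/
theorem card_normalizer_eleven (H : Subgroup (Perm α)) [IsPretransitive H α]
    (hα : Fintype.card α = 11) (hH : ¬ Group.IsSolvable H) (hHA : H ≤ alternatingGroup α)
    (P : Sylow 11 H) : Nat.card (Subgroup.normalizer ((P : Subgroup H) : Set H)) = 55 := by
  have : Fact (Nat.Prime 11) := ⟨by norm_num⟩
  have hP := card_sylow_eleven H hα P
  obtain ⟨c, hcP, hc1⟩ := exists_ne_one_mem_sylow_eleven H hα P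
  obtain ⟨hc11, -⟩ := orderOf_of_mem_sylow_eleven H hα P hcP hc1
  obtain ⟨k, hk, hN⟩ := card_normalizer_of_card_prime (P : Subgroup H) hP hcP hc1
  rw [card_centralizer_eleven H hα c hc11] at hN
  have hodd := odd_card_normalizer_eleven H hα hHA P
  have hne := card_normalizer_ne_eleven H hα hH P
  have hk' : k ∣ 10 := hk
  have hk10 : k ≤ 10 := Nat.le_of_dvd (by norm_num) hk'
  rw [hN] at hodd hne ⊢
  interval_cases k <;> omega

/-- there is more than one Sylow 11-subgroup -/
theorem one_lt_card_sylow_eleven (H : Subgroup (Perm α)) [IsPretransitive H α]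
    (hα : Fintype.card α = 11) (hH : ¬ Group.IsSolvable H) (hHA : H ≤ alternatingGroup α) :
    1 < Nat.card (Sylow 11 H) := by
  have : Fact (Nat.Prime 11) := ⟨by norm_num⟩
  obtain ⟨P⟩ : Nonempty (Sylow 11 H) := inferInstance
  have h1 := card_sylow_mul_card_normalizer 11 P
  have h55 : Nat.card (Subgroup.normalizer (P : Set H)) = 55 :=
    card_normalizer_eleven H hα hH hHA P
  rw [h55] at h1
  by_contra hle
  have h0 : Nat.card (Sylow 11 H) ≠ 0 := Nat.card_pos.ne'
  have h2 : Nat.card (Sylow 11 H) = 1 := by omega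
  rw [h2, one_mul] at h1
  exact hH (Cfsg.Agent.Lib.Helper1.solvable_of_card_prime_pow_mul_prime 11 5 1 (by norm_num)
    (by norm_num) (by rw [← h1]; norm_num))

/-- an even transitive nonsolvable group of degree 11 is simple -/
theorem isSimpleGroup_of_even (H : Subgroup (Perm α)) [IsPretransitive H α]
    (hα : Fintype.card α = 11) (hH : ¬ Group.IsSolvable H) (hHA : H ≤ alternatingGroup α) :
    IsSimpleGroup H := by
  have : Fact (Nat.Prime 11) := ⟨by norm_num⟩
  obtain ⟨P⟩ : Nonempty (Sylow 11 H) := inferInstance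
  refine Cfsg.Agent.S1013.result hα H P (one_lt_card_sylow_eleven H hα hH hHA) ?_
  have hP := card_sylow_eleven H hα P
  have h1 := card_mul_relIndex (Subgroup.le_normalizer (H := (P : Subgroup H)))
  rw [card_normalizer_eleven H hα hH hHA P] at h1
  have h2 : Nat.card (P : Subgroup H) = 11 := hP
  rw [h2] at h1
  have h3 : (P : Subgroup H).relIndex (Subgroup.normalizer ((P : Subgroup H) : Set H)) = 5 := by
    omega
  show ((P : Subgroup H).relIndex (Subgroup.normalizer ((P : Subgroup H) : Set H))).Prime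
  rw [h3]; norm_num

end Cfsg.Agent.Lib.Helper5.Deg11
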