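import Mathlib
import Cfsg.Agent.Lib.Helper5.Deg11.Simple

set_option autoImplicit false

/-! Transitive even groups of degree 11 not containing `A11`: the order is 660 or 7920. -/

namespace Cfsg.Agent.Lib.Helper5.Deg11

open Equiv Equiv.Perm MulAction Cfsg.Agent.Lib.Lead.SylowCount

theorem arith_sylow_count {n : ℕ} (h1 : n ∣ 362880) (h7 : ¬ 7 ∣ n) (h5 : ¬ 5 ∣ n)
    (h11 : n % 11 = 1) : n = 1 ∨ n = 12 ∨ n = 144 ∨ n = 1728 := by
  have hc5 : Nat.Coprime n 5 :=
    ((Nat.Prime.coprime_iff_not_dvd (by norm_num)).mpr h5).symm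
  have hc7 : Nat.Coprime n 7 :=
    ((Nat.Prime.coprime_iff_not_dvd (by norm_num)).mpr h7).symm
  have hc35 : Nat.Coprime n (5 * 7) := Nat.Coprime.mul_right hc5 hc7
  have h2 : n ∣ 2 ^ 7 * 3 ^ 4 := by
    apply Nat.Coprime.dvd_of_dvd_mul_right hc35
    norm_num
    exact h1
  obtain ⟨k1, k2, hk1, hk2, rfl⟩ := (Nat.dvd_mul).mp h2
  obtain ⟨a, ha, rfl⟩ := (Nat.dvd_prime_pow Nat.prime_two).mp hk1
  obtain ⟨b, hb, rfl⟩ := (Nat.dvd_prime_pow Nat.prime_three).mp hk2
  clear h1 h7 h5 hc5 hc7 hc35 h2 hk1 hk2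
  interval_cases a <;> interval_cases b <;>
    first
    | (exfalso; norm_num at h11; done)
    | norm_num

variable {α : Type*} [Fintype α] [DecidableEq α]

theorem card_dvd_half_factorial (H : Subgroup (Perm α)) (hα : Fintype.card α = 11)
    (hHA : H ≤ alternatingGroup α) : Nat.card H ∣ 19958400 := by
  have : Nontrivial α := Fintype.one_lt_card_iff_nontrivial.mp (by rw [hα]; norm_num)
  have h1 := Subgroup.card_dvd_of_le hHA
  have h2 : 2 * Nat.card (alternatingGroup α) = Nat.card (Perm α) :=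
    two_mul_nat_card_alternatingGroup
  rw [Nat.card_eq_fintype_card (α := Perm α), Fintype.card_perm, hα] at h2
  have h3 : Nat.card (alternatingGroup α) = 19958400 := by
    have : (11).factorial = 39916800 := by decide
    omega
  rwa [h3] at h1

theorem sylow_five_data (H : Subgroup (Perm α)) [IsPretransitive H α]
    (hα : Fintype.card α = 11) (hA : ¬ alternatingGroup α ≤ H) (hHA : H ≤ alternatingGroup α)
    (h5 : 5 ∣ Nat.card H) :
    ∃ k, k ∣ 4 ∧ Nat.card (Sylow 5 H) * (5 * k) = Nat.card H := by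
  have : Fact (Nat.Prime 5) := ⟨by norm_num⟩
  obtain ⟨P⟩ : Nonempty (Sylow 5 H) := inferInstance
  obtain ⟨m, hm⟩ := h5
  have h25 := not_25_dvd H hα hA
  have hm5 : ¬ 5 ∣ m := by
    rintro ⟨r, hr⟩
    apply h25
    rw [hm, hr]; exact ⟨r, by ring⟩
  have hP : Nat.card P = 5 := card_sylow_of_card_eq 5 m hm hm5 P
  obtain ⟨y, hyP, hy1⟩ : ∃ y ∈ (P : Subgroup H), y ≠ 1 := by
    by_contra hne
    push Not at hne
    have h1 : (P : Subgroup H) = ⊥ := (Subgroup.eq_bot_iff_forall _).mpr hne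
    have h2 : Nat.card (P : Subgroup H) = 1 := by rw [h1, Subgroup.card_bot]
    have h3 : Nat.card (P : Subgroup H) = 5 := hP
    omega
  have hy5 : orderOf y = 5 := by
    have h1 : orderOf y ∣ 5 := by
      have := orderOf_dvd_natCard (⟨y, hyP⟩ : (P : Subgroup H))
      rw [Subgroup.orderOf_mk] at this
      exact hP ▸ this
    rcases (Nat.dvd_prime (by norm_num)).mp h1 with h | h
    · exact absurd (orderOf_eq_one_iff.mp h) hy1
    · exact h
  obtain ⟨k, hk, hN⟩ := card_normalizer_of_card_prime (P : Subgroup H) hP hyP hy1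
  rw [card_centralizer_five H hα hA hHA y hy5] at hN
  refine ⟨k, hk, ?_⟩
  have h1 := card_sylow_mul_card_normalizer 5 P
  have hN' : Nat.card (Subgroup.normalizer (P : Set H)) = 5 * k := hN
  rw [hN'] at h1
  exact h1

/-- an even transitive nonsolvable group of degree 11 not containing `A11` has order
660 or 7920 -/
theorem card_eq_660_or_7920 (H : Subgroup (Perm α)) [IsPretransitive H α]
    (hα : Fintype.card α = 11) (hH : ¬ Group.IsSolvable H) (hA : ¬ alternatingGroup α ≤ H)
    (hHA : H ≤ alternatingGroup α) : Nat.card H = 660 ∨ Nat.card H = 7920 := by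
  have : Fact (Nat.Prime 11) := ⟨by norm_num⟩
  have : Fact (Nat.Prime 5) := ⟨by norm_num⟩
  obtain ⟨P⟩ : Nonempty (Sylow 11 H) := inferInstance
  have h1 := card_sylow_mul_card_normalizer 11 P
  have h55 : Nat.card (Subgroup.normalizer (P : Set H)) = 55 :=
    card_normalizer_eleven H hα hH hHA P
  rw [h55] at h1
  have hmod : Nat.card (Sylow 11 H) % 11 = 1 := card_sylow_modEq_one 11 H
  have hdvd := card_dvd_half_factorial H hα hHA
  have h7 := not_seven_dvd H hα hA
  have h25 := not_25_dvd H hα hA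
  have hlt := one_lt_card_sylow_eleven H hα hH hHA
  generalize Nat.card (Sylow 11 H) = n at h1 hmod hlt
  have hn1 : n ∣ 362880 := by
    rw [← h1] at hdvd
    exact Nat.dvd_of_mul_dvd_mul_right (by norm_num : 0 < 55) (by simpa using hdvd)
  have hn7 : ¬ 7 ∣ n := fun h => h7 (by rw [← h1]; exact Dvd.dvd.mul_right h 55)
  have hn5 : ¬ 5 ∣ n := fun ⟨r, hr⟩ => h25 (by rw [← h1, hr]; exact ⟨r * 11, by ring⟩)
  rcases arith_sylow_count hn1 hn7 hn5 hmod with h | h | h | h
  · omega
  · left; omega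
  · right; omega
  · exfalso
    have hc : Nat.card H = 95040 := by omega
    obtain ⟨k, hk, h5⟩ := sylow_five_data H hα hA hHA (by rw [hc]; norm_num)
    have hm5 : Nat.card (Sylow 5 H) % 5 = 1 := card_sylow_modEq_one 5 H
    rw [hc] at h5
    have hk4 : k ≤ 4 := Nat.le_of_dvd (by norm_num) hk
    generalize Nat.card (Sylow 5 H) = n5 at h5 hm5
    interval_cases k <;> omega

end Cfsg.Agent.Lib.Helper5.Deg11
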