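import Mathlib
import Cfsg.Agent.Lib.Helper5.Deg11.Order
import Cfsg.Agent.S0999
import Cfsg.Agent.Lib.Helper4.K4Field
import Cfsg.Agent.Lib.Helper7.M11Gp

set_option autoImplicit false

/-! Transitive even groups of degree 11 not containing `A11`: identification. -/

namespace Cfsg.Agent.Lib.Helper5.Deg11

open Equiv Equiv.Perm MulAction

/-- a simple group of order 660 is `PSL(2,11)` -/
theorem psl_of_card_660 {G : Type*} [Group G] [Finite G] [IsSimpleGroup G]
    (hc : Nat.card G = 660) :
    Nonempty (G ≃* Matrix.ProjectiveSpecialLinearGroup (Fin 2) (ZMod 11)) := by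
  have hncyc : ¬ IsCyclic G := by
    intro hcyc
    let _ : CommGroup G := IsCyclic.commGroup
    have hp : (Nat.card G).Prime := IsSimpleGroup.prime_card
    rw [hc] at hp
    norm_num at hp
  rcases Cfsg.Agent.S0999.result hncyc 11 (by norm_num) (by rw [hc]; norm_num)
    (by rw [hc]; norm_num) with ⟨F, _, _, hF, -, ⟨e⟩⟩ | ⟨m, F, _, _, hF, hm, -, -⟩
  · have e0 : ZMod 11 ≃+* F := ZMod.ringEquivOfPrime F (by norm_num) hF
    exact ⟨e.trans (Cfsg.Agent.Lib.Helper4.K4Field.pslEquivN 2 e0.symm)⟩
  · exfalso
    have h10 : 2 ^ m = 10 := by omega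
    have hm4 : m < 4 := by
      by_contra h
      push Not at h
      have : 2 ^ 4 ≤ 2 ^ m := Nat.pow_le_pow_right (by norm_num) h
      omega
    interval_cases m <;> omega

/-- sharp multiple transitivity is transported along an equivariant bijection -/
theorem isSharp_transport {G X Y : Type*} [Group G] [MulAction G X] [MulAction G Y] {k : ℕ}
    (φ : X ≃ Y) (hφ : ∀ (g : G) (x : X), φ (g • x) = g • φ x)
    (h : Cfsg.Agent.Lib.Helper8.Sh.IsSharp G X k) :
    Cfsg.Agent.Lib.Helper8.Sh.IsSharp G Y k := by
  obtain ⟨ht, hs⟩ := h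
  have hφs : ∀ (g : G) (y : Y), φ.symm (g • y) = g • φ.symm y := by
    intro g y
    apply φ.injective
    rw [hφ, Equiv.apply_symm_apply, Equiv.apply_symm_apply]
  constructor
  · refine ⟨fun x y => ?_⟩
    obtain ⟨g, hg⟩ := ht.exists_smul_eq (x.trans φ.symm.toEmbedding)
      (y.trans φ.symm.toEmbedding)
    refine ⟨g, ?_⟩
    ext i
    have h1 := DFunLike.congr_fun hg i
    simp only [Function.Embedding.smul_apply, Function.Embedding.trans_apply,
      Equiv.coe_toEmbedding] at h1
    rw [← hφs] at h1
    simpa using φ.symm.injective h1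
  · intro x
    rw [eq_bot_iff]
    intro g hg
    have h1 : g ∈ stabilizer G (x.trans φ.symm.toEmbedding) := by
      rw [mem_stabilizer_iff] at hg ⊢
      ext i
      have h2 := DFunLike.congr_fun hg i
      simp only [Function.Embedding.smul_apply] at h2
      simp only [Function.Embedding.smul_apply, Function.Embedding.trans_apply,
        Equiv.coe_toEmbedding]
      rw [← hφs, h2]
    rw [hs] at h1
    exact h1

variable {α : Type*} [Fintype α] [DecidableEq α]

/-- a simple transitive group of degree 11 and order 7920 is sharply 4-transitive -/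
theorem sharp_of_card_7920 (H : Subgroup (Perm α)) [IsPretransitive H α]
    (hα : Fintype.card α = 11) [IsSimpleGroup H] (hc : Nat.card H = 7920) :
    IsMultiplyPretransitive H α 4 ∧ ∀ x : Fin 4 ↪ α, stabilizer H x = ⊥ := by
  classical
  have : Fintype H := Fintype.ofFinite H
  have : Fintype (Cfsg.IrrCharacter H) := Fintype.ofFinite _
  obtain ⟨a⟩ : Nonempty α := Fintype.card_pos_iff.mp (by rw [hα]; norm_num)
  have hidx := index_stabilizer_of_transitive H a
  have hM : Nat.card (stabilizer H a) = 720 := by
    have := Subgroup.card_mul_index (stabilizer H a)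
    rw [hidx, Nat.card_eq_fintype_card (α := α), hα, hc] at this
    omega
  have hs := Cfsg.Agent.Lib.Helper7.M11Gp.isSharp_quotient hc (stabilizer H a) hM
  let φ : H ⧸ stabilizer H a ≃ α := Equiv.ofBijective (ofQuotientStabilizer H a)
    ⟨injective_ofQuotientStabilizer H a, fun y => by
      obtain ⟨g, hg⟩ := exists_smul_eq H a y
      exact ⟨(g : H ⧸ stabilizer H a), by rw [ofQuotientStabilizer_mk]; exact hg⟩⟩
  exact isSharp_transport φ (fun g x => ofQuotientStabilizer_smul H a g x) hs

end Cfsg.Agent.Lib.Helper5.Deg11
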