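import Mathlib
import Cfsg.Agent.Lib.Helper5.Deg11.Ends
import Cfsg.Agent.S0676

set_option autoImplicit false

/-! A sharply 4-transitive even group of degree 11 has no transitive extension of index two
inside the symmetric group. -/

namespace Cfsg.Agent.Lib.Helper5.Deg11

open Equiv Equiv.Perm MulAction Cfsg.Agent.Lib.Lead.SylowCount

variable {α : Type*} [Fintype α] [DecidableEq α]

/-- an injective 4-tuple inside a 5-set with prescribed first entry -/
theorem exists_emb_in (Φ : Finset α) (hΦ : Φ.card = 5) (f : α) (hf : f ∈ Φ) :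
    ∃ t : Fin 4 ↪ α, t 0 = f ∧ ∀ i, t i ∈ Φ := by
  have e : Fin 5 ≃ {x // x ∈ Φ} :=
    (Fintype.equivFinOfCardEq (by rw [Fintype.card_coe, hΦ])).symm
  refine ⟨(Fin.castLEEmb (by norm_num : 4 ≤ 5)).trans
    ((Equiv.swap 0 (e.symm ⟨f, hf⟩)).toEmbedding.trans
      (e.toEmbedding.trans (Function.Embedding.subtype _))), ?_, ?_⟩
  · simp
  · intro i
    simp

/-- an element of order 5 cannot commute with a permutation having exactly 5 fixed points -/
theorem false_of_five_commuting (G : Subgroup (Perm α)) [IsPretransitive G α]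
    (hα : Fintype.card α = 11) (hA : ¬ alternatingGroup α ≤ G) {τ y : Perm α}
    (hΦ : (τ.supportᶜ).card = 5) (hy : y ∈ G) (h5 : orderOf y = 5) (hc : y * τ = τ * y) :
    False := by
  obtain ⟨f, hf, hfu⟩ := exists_unique_fixed_of_five G hα hA hy h5
  have hτf : τ f = f := by
    apply hfu
    have h1 : y (τ f) = (y * τ) f := rfl
    rw [h1, hc, Perm.mul_apply, hf]
  have hmem : ∀ x, x ∈ τ.supportᶜ ↔ τ x = x := by
    intro x
    rw [Finset.mem_compl, Perm.notMem_support]
  have hfΦ : f ∈ τ.supportᶜ := (hmem f).mpr hτf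
  have hcard : ((τ.supportᶜ).erase f).card = 4 := by
    rw [Finset.card_erase_of_mem hfΦ, hΦ]
  have hcomm : ∀ x, τ (y x) = y (τ x) := by
    intro x
    have h1 : y (τ x) = (y * τ) x := rfl
    rw [h1, hc, Perm.mul_apply]
  have hiff : ∀ x, y x ∈ (τ.supportᶜ).erase f ↔ x ∈ (τ.supportᶜ).erase f := by
    intro x
    rw [Finset.mem_erase, Finset.mem_erase, hmem, hmem, hcomm]
    constructor
    · rintro ⟨h1, h2⟩
      refine ⟨fun h => h1 (by rw [h, hf]), y.injective h2⟩
    · rintro ⟨h1, h2⟩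
      refine ⟨fun h => h1 (y.injective (by rw [h, hf])), by rw [h2]⟩
  let σ : Perm {x // x ∈ (τ.supportᶜ).erase f} := y.subtypePerm hiff
  have hσ5 : σ ^ 5 = 1 := by
    have hy5 : y ^ 5 = 1 := by rw [← h5]; exact pow_orderOf_eq_one y
    ext x
    simp [σ, Perm.subtypePerm_pow, hy5]
  have hσ1 : σ ≠ 1 := by
    intro h
    obtain ⟨p, hp⟩ : ((τ.supportᶜ).erase f).Nonempty := by
      rw [← Finset.card_pos, hcard]; norm_num
    have h1 := congrArg (fun s : Perm {x // x ∈ (τ.supportᶜ).erase f} => ((s ⟨p, hp⟩ : _) : α)) h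
    simp only [σ, Perm.subtypePerm_apply, Perm.coe_one, id_eq] at h1
    exact (Finset.mem_erase.mp hp).1 (hfu p h1)
  have : Fact (Nat.Prime 5) := ⟨by norm_num⟩
  have hord : orderOf σ = 5 := orderOf_eq_prime hσ5 hσ1
  have hdvd := orderOf_dvd_card (G := Perm {x // x ∈ (τ.supportᶜ).erase f}) (x := σ)
  rw [hord, Fintype.card_perm, Fintype.card_coe, hcard] at hdvd
  norm_num [Nat.factorial] at hdvd

theorem sign_conj_mul_inv (g τ : Perm α) : sign (g * τ * g⁻¹ * τ⁻¹) = 1 := by
  rw [map_mul, map_mul, map_mul, map_inv, map_inv]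
  rcases Int.units_eq_one_or (sign g) with h | h <;>
    rcases Int.units_eq_one_or (sign τ) with h' | h' <;> rw [h, h'] <;> decide

/-- a sharply 4-transitive even group of degree 11 has no odd extension -/
theorem no_odd_extension (G : Subgroup (Perm α)) [IsPretransitive G α]
    (hα : Fintype.card α = 11) (hA : ¬ alternatingGroup α ≤ G)
    (h4 : ∀ x y : Fin 4 ↪ α, ∃ g ∈ G, sign g = 1 ∧ ∀ i, g (x i) = y i)
    (hsharp : ∀ g ∈ G, sign g = 1 → ∀ x : Fin 4 ↪ α, (∀ i, g (x i) = x i) → g = 1)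
    (hodd : ∃ g ∈ G, sign g ≠ 1) : False := by
  obtain ⟨t0⟩ : Nonempty (Fin 4 ↪ α) :=
    Function.Embedding.nonempty_of_card_le (by rw [Fintype.card_fin, hα]; norm_num)
  obtain ⟨g, hgG, hgs⟩ := hodd
  obtain ⟨h, hhG, hhs, hh⟩ := h4 (t0.trans g.toEmbedding) t0
  -- the odd element `τ` fixing `t0`
  obtain ⟨τ, hτG, hτs, hτfix⟩ : ∃ τ ∈ G, sign τ ≠ 1 ∧ ∀ i, τ (t0 i) = t0 i := by
    refine ⟨h * g, G.mul_mem hhG hgG, ?_, fun i => ?_⟩
    · rw [map_mul, hhs, one_mul]; exact hgs
    · have := hh i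
      simpa using this
  have hτ1 : τ ≠ 1 := by
    intro h1
    rw [h1, map_one] at hτs
    exact hτs rfl
  have hτsq : τ ^ 2 = 1 := by
    apply hsharp _ (G.pow_mem hτG 2) _ t0
    · intro i
      rw [pow_two, Perm.mul_apply, hτfix, hτfix]
    · rw [map_pow]
      rcases Int.units_eq_one_or (sign τ) with h | h <;> rw [h] <;> decide
  have : Fact (Nat.Prime 2) := ⟨Nat.prime_two⟩
  have hτ2 : orderOf τ = 2 := orderOf_eq_prime hτsq hτ1
  obtain ⟨n, hct, hsupp⟩ := cycleType_of_orderOf_prime Nat.prime_two hτ2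
  -- parity
  have hsign := sign_of_cycleType τ
  rw [hct, Multiset.sum_replicate, Multiset.card_replicate] at hsign
  have hnev : ¬ Even ((n + 1) • 2 + (n + 1)) := by
    intro hev
    apply hτs
    rw [hsign]
    exact (neg_one_pow_eq_one_iff_even (by decide)).mpr hev
  have hnodd : ¬ Even (n + 1) := by
    intro hev
    apply hnev
    rw [smul_eq_mul]
    exact Even.add (Even.mul_left even_two _) hev
  -- the support has at most 7 points
  have hsub : τ.support ⊆ (Finset.univ.map t0)ᶜ := by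
    intro x hx
    rw [Finset.mem_compl]
    intro hx'
    obtain ⟨i, -, rfl⟩ := Finset.mem_map.mp hx'
    exact (Perm.mem_support.mp hx) (hτfix i)
  have hle : τ.support.card ≤ 7 := by
    have := Finset.card_le_card hsub
    rw [Finset.card_compl, Finset.card_map, Finset.card_univ, Fintype.card_fin, hα] at this
    exact this
  have hn : n = 0 ∨ n = 2 := by
    have h3 : n ≤ 2 := by omega
    interval_cases n
    · left; rfl
    · exact absurd even_two hnodd
    · right; rfl
  rcases hn with rfl | rfl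
  · -- a transposition: Jordan
    have hcyc : τ.IsCycle := by
      rw [← card_cycleType_eq_one, hct]; rfl
    exact jordan_false G hα hA Nat.prime_two (by norm_num) hτG hcyc (by omega)
  · -- five fixed points
    have hΦ : (τ.supportᶜ).card = 5 := by
      rw [Finset.card_compl, hα]; omega
    have hmem : ∀ x, x ∈ τ.supportᶜ ↔ τ x = x := by
      intro x
      rw [Finset.mem_compl, Perm.notMem_support]
    -- the centralizer of `τ` in `G` is transitive on the fixed points
    have htrans : ∀ f1 ∈ τ.supportᶜ, ∀ f2 ∈ τ.supportᶜ, ∃ g ∈ G, g * τ = τ * g ∧ g f1 = f2 := by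
      intro f1 hf1 f2 hf2
      obtain ⟨t1, ht10, ht1⟩ := exists_emb_in _ hΦ f1 hf1
      obtain ⟨t2, ht20, ht2⟩ := exists_emb_in _ hΦ f2 hf2
      obtain ⟨g, hgG, -, hg⟩ := h4 t1 t2
      refine ⟨g, hgG, ?_, by rw [← ht10, ← ht20]; exact hg 0⟩
      have hρG : g * τ * g⁻¹ * τ⁻¹ ∈ G :=
        G.mul_mem (G.mul_mem (G.mul_mem hgG hτG) (G.inv_mem hgG)) (G.inv_mem hτG)
      have hρ : g * τ * g⁻¹ * τ⁻¹ = 1 := by
        apply hsharp _ hρG (sign_conj_mul_inv g τ) t2
        intro i
        have hτi : τ⁻¹ (t2 i) = t2 i := by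
          rw [Perm.inv_eq_iff_eq]; exact ((hmem _).mp (ht2 i)).symm
        have hgi : g⁻¹ (t2 i) = t1 i := by
          rw [Perm.inv_eq_iff_eq]; exact (hg i).symm
        rw [Perm.mul_apply, Perm.mul_apply, Perm.mul_apply, hτi, hgi, (hmem _).mp (ht1 i), hg i]
      calc g * τ = (g * τ * g⁻¹ * τ⁻¹) * (τ * g) := by group
        _ = τ * g := by rw [hρ, one_mul]
    -- the centralizer
    let C : Subgroup (Perm α) := G ⊓ Subgroup.centralizer ({τ} : Set (Perm α))
    have hCmem : ∀ c : Perm α, c ∈ C ↔ c ∈ G ∧ c * τ = τ * c := by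
      intro c
      rw [Subgroup.mem_inf, Subgroup.mem_centralizer_singleton_iff]
    obtain ⟨f1, hf1⟩ : (τ.supportᶜ).Nonempty := by
      rw [← Finset.card_pos, hΦ]; norm_num
    have horb : orbit C f1 = ((τ.supportᶜ : Finset α) : Set α) := by
      ext z
      constructor
      · rintro ⟨c, rfl⟩
        have hc := ((hCmem _).mp c.2).2
        rw [Finset.mem_coe, hmem]
        show τ ((c : Perm α) f1) = (c : Perm α) f1
        have h1 : τ ((c : Perm α) f1) = (τ * (c : Perm α)) f1 := rfl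
        rw [h1, ← hc, Perm.mul_apply, (hmem _).mp hf1]
      · intro hz
        obtain ⟨g, hgG, hgc, hgf⟩ := htrans f1 hf1 z (Finset.mem_coe.mp hz)
        exact ⟨⟨g, (hCmem _).mpr ⟨hgG, hgc⟩⟩, hgf⟩
    have h5C : 5 ∣ Nat.card C := by
      have h1 := MulAction.index_stabilizer (G := C) (x := f1)
      rw [horb, Set.ncard_coe_finset, hΦ] at h1
      rw [← h1]
      exact Subgroup.index_dvd_card _
    have : Fact (Nat.Prime 5) := ⟨by norm_num⟩
    obtain ⟨y, hy⟩ := exists_prime_orderOf_dvd_card' 5 h5C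
    have hy5 : orderOf (y : Perm α) = 5 := by rw [Subgroup.orderOf_coe]; exact hy
    obtain ⟨hyG, hyc⟩ := (hCmem _).mp y.2
    exact false_of_five_commuting G hα hA hΦ hyG hy5 hyc

end Cfsg.Agent.Lib.Helper5.Deg11
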