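import Mathlib
import Cfsg.Agent.Lib.Helper5.Deg11.Index2

set_option autoImplicit false

/-! Nonsolvable transitive groups of degree 11 not containing `A11`. -/

namespace Cfsg.Agent.Lib.Helper5.Deg11

open Equiv Equiv.Perm MulAction Cfsg.Agent.Lib.Lead.SylowCount

variable {α : Type*} [Fintype α] [DecidableEq α]

/-- the even case -/
theorem even_case (H : Subgroup (Perm α)) [IsPretransitive H α]
    (hα : Fintype.card α = 11) (hH : ¬ Group.IsSolvable H) (hA : ¬ alternatingGroup α ≤ H)
    (hHA : H ≤ alternatingGroup α) :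
    (IsMultiplyPretransitive H α 4 ∧ ∀ x : Fin 4 ↪ α, stabilizer H x = ⊥) ∨
      Nonempty (H ≃* Matrix.ProjectiveSpecialLinearGroup (Fin 2) (ZMod 11)) := by
  have hs : IsSimpleGroup H := isSimpleGroup_of_even H hα hH hHA
  rcases card_eq_660_or_7920 H hα hH hA hHA with hc | hc
  · right
    exact psl_of_card_660 hc
  · left
    exact sharp_of_card_7920 H hα hc

/-- the even part of a transitive group of degree 11 is transitive -/
theorem isPretransitive_inf_alternating (G : Subgroup (Perm α)) [IsPretransitive G α]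
    (hα : Fintype.card α = 11) : IsPretransitive (G ⊓ alternatingGroup α : Subgroup (Perm α)) α := by
  have : Fact (Nat.Prime 11) := ⟨by norm_num⟩
  obtain ⟨c, hc⟩ := exists_prime_orderOf_dvd_card' 11 (eleven_dvd_card G hα)
  have hc' : orderOf (c : Perm α) = 11 := by rw [orderOf_coe_perm]; exact hc
  obtain ⟨hcyc, hfix, hsign, -⟩ := orderOf_eleven hα hc'
  have hmem : (c : Perm α) ∈ (G ⊓ alternatingGroup α : Subgroup (Perm α)) :=
    Subgroup.mem_inf.mpr ⟨c.2, mem_alternatingGroup.mpr hsign⟩
  refine ⟨fun x y => ?_⟩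
  obtain ⟨i, hi⟩ := hcyc.exists_zpow_eq (hfix x) (hfix y)
  exact ⟨⟨(c : Perm α) ^ i, Subgroup.zpow_mem _ hmem i⟩, hi⟩

/-- the even part of a nonsolvable group is nonsolvable -/
theorem not_isSolvable_inf_alternating (G : Subgroup (Perm α)) (hG : ¬ Group.IsSolvable G) :
    ¬ Group.IsSolvable (G ⊓ alternatingGroup α : Subgroup (Perm α)) := by
  intro hs
  apply hG
  have hle : (G ⊓ alternatingGroup α : Subgroup (Perm α)) ≤ G := inf_le_left
  refine Group.isSolvable_of_ker_le_range (Subgroup.inclusion hle) ((sign (α := α)).comp G.subtype) ?_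
  intro x hx
  have hx' : sign (x : Perm α) = 1 := hx
  exact ⟨⟨x.1, Subgroup.mem_inf.mpr ⟨x.2, mem_alternatingGroup.mpr hx'⟩⟩, Subtype.ext rfl⟩

/-- **Nonsolvable transitive groups of degree 11** not containing the alternating group. -/
theorem deg_eleven_main (hα : Fintype.card α = 11) (G : Subgroup (Perm α))
    [IsPretransitive G α] (hG : ¬ Group.IsSolvable G) (hA : ¬ alternatingGroup α ≤ G) :
    (IsMultiplyPretransitive G α 4 ∧ ∀ x : Fin 4 ↪ α, stabilizer G x = ⊥) ∨
      Nonempty (G ≃* Matrix.ProjectiveSpecialLinearGroup (Fin 2) (ZMod 11)) := by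
  by_cases hGA : G ≤ alternatingGroup α
  · exact even_case G hα hG hA hGA
  exfalso
  have : Fact (Nat.Prime 11) := ⟨by norm_num⟩
  have hnt : Nontrivial α := Fintype.one_lt_card_iff_nontrivial.mp (by rw [hα]; norm_num)
  have htr0 := isPretransitive_inf_alternating G hα
  have hns0 := not_isSolvable_inf_alternating G hG
  have hA0 : ¬ alternatingGroup α ≤ (G ⊓ alternatingGroup α : Subgroup (Perm α)) :=
    fun h => hA (h.trans inf_le_left)
  have hle0 : (G ⊓ alternatingGroup α : Subgroup (Perm α)) ≤ alternatingGroup α := inf_le_right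
  have hs0 : IsSimpleGroup (G ⊓ alternatingGroup α : Subgroup (Perm α)) :=
    isSimpleGroup_of_even _ hα hns0 hle0
  -- index two
  have hrel : (alternatingGroup α).relIndex G = 2 := by
    have h1 := Subgroup.relIndex_dvd_index_of_normal (alternatingGroup α) G
    rw [alternatingGroup.index_eq_two] at h1
    rcases (Nat.dvd_prime Nat.prime_two).mp h1 with h | h
    · exact absurd (Subgroup.relIndex_eq_one.mp h) hGA
    · exact h
  have hcard : Nat.card (G ⊓ alternatingGroup α : Subgroup (Perm α)) * 2 = Nat.card G := by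
    have := card_mul_relIndex (inf_le_left : (G ⊓ alternatingGroup α : Subgroup (Perm α)) ≤ G)
    rwa [Subgroup.inf_relIndex_left, hrel] at this
  -- the Sylow 11-normalizer of `G` has even order
  obtain ⟨P⟩ : Nonempty (Sylow 11 G) := inferInstance
  have hPN : (P : Subgroup G) ≤ (alternatingGroup α).subgroupOf G := by
    intro g hg
    by_cases hg1 : g = 1
    · rw [hg1]; exact Subgroup.one_mem _
    · obtain ⟨h11, -⟩ := orderOf_of_mem_sylow_eleven G hα P hg hg1
      have h11' : orderOf (g : Perm α) = 11 := by rw [orderOf_coe_perm]; exact h11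
      exact Subgroup.mem_subgroupOf.mpr (mem_alternatingGroup.mpr (orderOf_eleven hα h11').2.2.1)
  have hNidx : ((alternatingGroup α).subgroupOf G).index = 2 := hrel
  have heven : Even (Nat.card (Subgroup.normalizer ((P : Subgroup G) : Set G))) := by
    have h := Sylow.normalizer_sup_eq_top' P hPN
    have h2 : ((alternatingGroup α).subgroupOf G).index ∣
        Nat.card (Subgroup.normalizer ((P : Subgroup G) : Set G)) := by
      rw [← Subgroup.relIndex_top_right, ← h, Subgroup.relIndex_sup_right]
      exact Subgroup.relIndex_dvd_card _ _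
    rw [hNidx] at h2
    exact even_iff_two_dvd.mpr h2
  have h3 : IsPretransitive G (Fin 3 ↪ α) := Cfsg.Agent.S0676.result hα G hG P heven
  have h990 : 990 ∣ Nat.card G := by
    obtain ⟨x⟩ : Nonempty (Fin 3 ↪ α) :=
      Function.Embedding.nonempty_of_card_le (by rw [Fintype.card_fin, hα]; norm_num)
    have h1 := @index_stabilizer_of_transitive G (Fin 3 ↪ α) _ _ x h3
    rw [Nat.card_eq_fintype_card, Fintype.card_embedding_eq, Fintype.card_fin, hα] at h1
    have h' : Nat.descFactorial 11 3 = 990 := by decide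
    rw [h'] at h1
    rw [← h1]
    exact Subgroup.index_dvd_card _
  rcases card_eq_660_or_7920 _ hα hns0 hA0 hle0 with hc | hc
  · rw [hc] at hcard
    rw [← hcard] at h990
    norm_num at h990
  · obtain ⟨h4', hs'⟩ := sharp_of_card_7920 _ hα hc
    apply no_odd_extension G hα hA
    · intro x y
      obtain ⟨g, hg⟩ := h4'.exists_smul_eq x y
      refine ⟨g.1, (Subgroup.mem_inf.mp g.2).1, mem_alternatingGroup.mp (Subgroup.mem_inf.mp g.2).2,
        fun i => ?_⟩
      exact DFunLike.congr_fun hg i
    · intro g hgG hgs x hfix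
      have hmem : g ∈ (G ⊓ alternatingGroup α : Subgroup (Perm α)) :=
        Subgroup.mem_inf.mpr ⟨hgG, mem_alternatingGroup.mpr hgs⟩
      have hst : (⟨g, hmem⟩ : (G ⊓ alternatingGroup α : Subgroup (Perm α))) ∈
          stabilizer (G ⊓ alternatingGroup α : Subgroup (Perm α)) x := by
        rw [mem_stabilizer_iff]
        ext i
        exact hfix i
      rw [hs' x] at hst
      exact congrArg Subtype.val (Subgroup.mem_bot.mp hst)
    · obtain ⟨g, hgG, hgA⟩ := SetLike.not_le_iff_exists.mp hGA
      exact ⟨g, hgG, fun h => hgA (mem_alternatingGroup.mpr h)⟩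

end Cfsg.Agent.Lib.Helper5.Deg11
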